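import Groth.Agent.LimPic.Basic

/-!
# Isomorphisms of invertible modules on a limit come from a stage
-/

set_option autoImplicit false
set_option linter.unusedSectionVars false
set_option linter.style.haveILetI false
set_option backward.isDefEq.respectTransparency false
set_option backward.isDefEq.respectTransparency.types false
set_option maxHeartbeats 800000

universe u

open CategoryTheory CategoryTheory.Limits AlgebraicGeometry TopologicalSpace Opposite

noncomputable section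

namespace Groth.Agent.LimPic

open Groth.Agent.AModX Groth.Agent.InvX Groth.Agent.FramesTrans

/-- A pulled back change of frame. -/
theorem pull_change {X Y : Scheme.{u}} (r : Y ⟶ X) {M : X.Modules} {U U' : X.Opens} {e : Γ(M, U)} {e' : Γ(M, U')}
    (he : IsFrame e) (he' : IsFrame e') {W : Y.Opens} (h : W ≤ r ⁻¹ᵁ U) (h' : W ≤ r ⁻¹ᵁ U') :
    res ((Scheme.Modules.pullback r).obj M) h' (pullElt r e') =
      (pu r (U ⊓ U') W (le_inf h h') (tr he he') : Γ(Y, W)) • res _ h (pullElt r e) := by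
  have hh := congrArg (fun s => res ((Scheme.Modules.pullback r).obj M)
    (show W ≤ r ⁻¹ᵁ (U ⊓ U') from le_inf h h') (pullElt r s)) (exists_unit he he').choose_spec
  simp only [FramesTrans.pullElt_res, FramesTrans.pullElt_smul, res_smul, res_res] at hh
  exact hh

variable {I : Type u} [SmallCategory I] [IsCofiltered I] {D : I ⥤ Scheme.{u}} {c : Cone D} (hc : IsLimit c)
  [∀ {i j : I} (f : i ⟶ j), IsAffineHom (D.map f)] [∀ i, CompactSpace (D.obj i)]
  [∀ i, QuasiSeparatedSpace (D.obj i)]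

include hc

/-- **An isomorphism of invertible modules on a limit comes from a stage.** -/
theorem exists_iso {i : I} {A B : (D.obj i).Modules} (hA : PicF.IsInvertible A) (hB : PicF.IsInvertible B)
    (φ : (Scheme.Modules.pullback (c.π.app i)).obj A ≅ (Scheme.Modules.pullback (c.π.app i)).obj B) :
    ∃ k : Over i, Nonempty ((Scheme.Modules.pullback (D.map k.hom)).obj A ≅
      (Scheme.Modules.pullback (D.map k.hom)).obj B) := by
  classical
  obtain ⟨FA⟩ := nonempty_frames hA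
  obtain ⟨FB⟩ := nonempty_frames hB
  choose V₀ hV₀ hx hle using fun x : D.obj i =>
    exists_isAffineOpen_mem_and_subset (U := FA.U x ⊓ FB.U x) (x := x) ⟨FA.mem x, FB.mem x⟩
  obtain ⟨σ, hσ⟩ := CompactSpace.elim_nhds_subcover (fun x => (V₀ x : Set (D.obj i)))
    (fun x => (V₀ x).2.mem_nhds (hx x))
  let V : σ → (D.obj i).Opens := fun a => V₀ a.1
  have hV : ∀ a, IsAffineOpen (V a) := fun a => hV₀ a.1
  let eA : ∀ a : σ, Γ(A, V a) := fun a => res A (show V a ≤ FA.U a from fun z hz => (hle a.1 hz).1) (FA.e a)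
  let eB : ∀ a : σ, Γ(B, V a) := fun a => res B (show V a ≤ FB.U a from fun z hz => (hle a.1 hz).2) (FB.e a)
  have hA' : ∀ a, IsFrame (eA a) := fun a => (FA.he a).res _
  have hB' : ∀ a, IsFrame (eB a) := fun a => (FB.he a).res _
  let π : c.pt ⟶ D.obj i := c.π.app i
  let A' := (Scheme.Modules.pullback π).obj A
  let B' := (Scheme.Modules.pullback π).obj B
  have hφA : ∀ a, IsFrame (φ.hom.app (π ⁻¹ᵁ V a) (pullElt π (eA a))) := fun a =>
    (isFrame_pullElt π (hA' a)).map_iso φ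
  let u : ∀ a : σ, Γ(c.pt, π ⁻¹ᵁ V a)ˣ := fun a =>
    Units.map (resR (le_inf le_rfl le_rfl)).toMonoidHom (tr (isFrame_pullElt π (hB' a)) (hφA a))
  have hu : ∀ a (W : c.pt.Opens) (h : W ≤ π ⁻¹ᵁ V a), res B' h (φ.hom.app _ (pullElt π (eA a))) =
      (Units.map (resR h).toMonoidHom (u a) : Γ(c.pt, W)) • res B' h (pullElt π (eB a)) := fun a W h => by
    refine (tr_spec (isFrame_pullElt π (hB' a)) (hφA a) h h).trans ?_
    congr 1
    exact (resR_resR _ _ _).symm
  have hcV : ∀ a : σ, IsCompact (V a : Set (D.obj i)) := fun a => (hV a).isCompact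
  obtain ⟨j, hj⟩ := exists_forall (fun (a : σ) (j : Over i) =>
      ∃ t : Γ(D.obj j.left, D.map j.hom ⁻¹ᵁ V a)ˣ, pu (c.π.app j.left) _ _ (π_le j _) t = u a)
    (fun a {j k : Over i} (g : k ⟶ j) h =>
      ⟨pu (D.map g.left) _ _ (map_le g _) h.choose, (pu_pu _ _ (c.w g.left) _ _ _).trans h.choose_spec⟩)
    (fun a => exists_lift_unit hc (hcV a) (u a))
  choose t ht using hj
  let W2 : σ × σ → (D.obj i).Opens := fun p => V p.1 ⊓ V p.2
  have hc2 : ∀ p, IsCompact (W2 p : Set (D.obj i)) := fun p =>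
    QuasiSeparatedSpace.inter_isCompact _ _ (V p.1).2 (hcV _) (V p.2).2 (hcV _)
  have hW : ∀ p : σ × σ, W2 p ≤ V p.2 ⊓ V p.1 := fun p => le_inf inf_le_right inf_le_left
  let T : ∀ (p : σ × σ) (a : σ), W2 p ≤ V a → Γ(D.obj j.left, D.map j.hom ⁻¹ᵁ W2 p)ˣ :=
    fun p a h => Units.map (resR ((D.map j.hom).preimage_mono h)).toMonoidHom (t a)
  let SA : ∀ p : σ × σ, Γ(D.obj j.left, D.map j.hom ⁻¹ᵁ W2 p)ˣ := fun p =>
    pu (D.map j.hom) _ _ ((D.map j.hom).preimage_mono (hW p)) (tr (hA' p.2) (hA' p.1))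
  let SB : ∀ p : σ × σ, Γ(D.obj j.left, D.map j.hom ⁻¹ᵁ W2 p)ˣ := fun p =>
    pu (D.map j.hom) _ _ ((D.map j.hom).preimage_mono (hW p)) (tr (hB' p.2) (hB' p.1))
  obtain ⟨k, g, hk⟩ := exists_eq_units hc j W2 hc2 (fun p => T p p.1 inf_le_left * SB p)
    (fun p => SA p * T p p.2 inf_le_right) fun p => by
      have hT : ∀ a (h : W2 p ≤ V a), pu (c.π.app j.left) _ _ (π_le j (W2 p)) (T p a h) =
          Units.map (resR (π.preimage_mono h)).toMonoidHom (u a) := fun a h => by
        rw [← ht a]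
        exact (pu_map _ _ _ _).trans (map_pu _ _ _ _).symm
      rw [map_mul, map_mul, hT p.1 inf_le_left, hT p.2 inf_le_right]
      have hS : ∀ (s : Γ(D.obj i, V p.2 ⊓ V p.1)ˣ),
          pu (c.π.app j.left) _ _ (π_le j (W2 p)) (pu (D.map j.hom) _ _ ((D.map j.hom).preimage_mono (hW p)) s) =
            pu π (V p.2 ⊓ V p.1) (π ⁻¹ᵁ W2 p) (π.preimage_mono (hW p)) s := fun s => pu_pu _ _ (c.w j.hom) _ _ s
      simp only [SA, SB]
      rw [hS, hS]
      refine Units.ext (((isFrame_pullElt π (hB' p.2)).res (π.preimage_mono inf_le_right)).coord_unique le_rfl ?_)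
      rw [res_self, Units.val_mul, Units.val_mul, mul_smul, mul_smul,
        ← hu p.2 _ (π.preimage_mono inf_le_right),
        ← pull_change π (hB' p.2) (hB' p.1) (π.preimage_mono inf_le_right) (π.preimage_mono inf_le_left),
        ← hu p.1 _ (π.preimage_mono inf_le_left)]
      rw [← app_res, ← app_res,
        pull_change π (hA' p.2) (hA' p.1) (π.preimage_mono inf_le_right) (π.preimage_mono inf_le_left),
        Scheme.Modules.Hom.app_smul]
  refine ⟨k, ?_⟩
  let r : D.obj k.left ⟶ D.obj i := D.map k.hom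
  let a' : ∀ a : σ, Γ((Scheme.Modules.pullback r).obj A, r ⁻¹ᵁ V a) := fun a => pullElt r (eA a)
  let tk : ∀ a : σ, Γ(D.obj k.left, r ⁻¹ᵁ V a)ˣ := fun a => pu (D.map g.left) _ _ (map_le g _) (t a)
  let n : ∀ a : σ, Γ((Scheme.Modules.pullback r).obj B, r ⁻¹ᵁ V a) := fun a =>
    (tk a : Γ(D.obj k.left, r ⁻¹ᵁ V a)) • pullElt r (eB a)
  refine RigDescent.nonempty_iso_of_main (fun a => r ⁻¹ᵁ V a) (fun z => ?_) a' n
    (fun a => isFrame_pullElt r (hA' a)) (fun a => (isFrame_pullElt r (hB' a)).isUnit_smul (tk a).isUnit)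
    fun p q W hp hq => ?_
  · obtain ⟨x, hx', hz⟩ := Set.mem_iUnion₂.1 (hσ.ge (Set.mem_univ (r z)))
    exact ⟨⟨x, hx'⟩, hz⟩
  refine ⟨(pu r (V p ⊓ V q) W (le_inf hp hq) (tr (hA' p) (hA' q)) : Γ(D.obj k.left, W)),
    pull_change r (hA' p) (hA' q) hp hq, ?_⟩
  have hW' : W ≤ r ⁻¹ᵁ W2 (q, p) := fun z hz => ⟨hq hz, hp hz⟩
  show res _ hq ((tk q : Γ(D.obj k.left, r ⁻¹ᵁ V q)) • pullElt r (eB q)) =
    _ • res _ hp ((tk p : Γ(D.obj k.left, r ⁻¹ᵁ V p)) • pullElt r (eB p))
  rw [res_smul, res_smul, pull_change r (hB' p) (hB' q) hp hq, smul_smul, smul_smul]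
  refine congrArg (· • res ((Scheme.Modules.pullback r).obj B) hp (pullElt r (eB p))) ?_
  have hk' := congrArg (Units.map (resR hW').toMonoidHom) (hk (q, p))
  have hTk : ∀ a (h : W2 (q, p) ≤ V a) (hWa : W ≤ r ⁻¹ᵁ V a), Units.map (resR hW').toMonoidHom
      (pu (D.map g.left) _ _ (map_le g _) (T (q, p) a h)) = Units.map (resR hWa).toMonoidHom (tk a) := fun a h hWa =>
    ((congrArg _ (pu_map _ _ _ _)).trans (map_pu _ _ _ _)).trans (map_pu _ _ _ _).symm
  have hSk : ∀ (s : Γ(D.obj i, V p ⊓ V q)ˣ), Units.map (resR hW').toMonoidHom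
      (pu (D.map g.left) _ _ (map_le g _) (pu (D.map j.hom) _ _ ((D.map j.hom).preimage_mono (hW (q, p))) s)) =
        pu r (V p ⊓ V q) W (le_inf hp hq) s := fun s =>
    (congrArg _ (pu_pu _ _ (show D.map g.left ≫ D.map j.hom = r by
      show _ = D.map k.hom
      rw [← D.map_comp, Over.w g]) _ _ s)).trans (map_pu _ _ _ _)
  rw [map_mul, map_mul, map_mul, map_mul] at hk'
  simp only [SA, SB] at hk'
  rw [hTk q inf_le_left hq, hTk p inf_le_right hp, hSk, hSk] at hk'
  exact congrArg Units.val hk'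

end Groth.Agent.LimPic
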