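import Groth.Agent.Lib.RigDescent
import Mathlib.AlgebraicGeometry.AffineTransitionLimit

/-!
# Invertible modules and their isomorphisms on a limit come from a stage
-/

set_option autoImplicit false
set_option linter.unusedSectionVars false
set_option linter.style.haveILetI false
set_option backward.isDefEq.respectTransparency false
set_option backward.isDefEq.respectTransparency.types false
set_option maxHeartbeats 800000

universe u

open CategoryTheory CategoryTheory.Limits AlgebraicGeometry TopologicalSpace Opposite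

noncomputable section

namespace Groth.Agent.LimPic

open Groth.Agent.AModX Groth.Agent.InvX Groth.Agent.FramesTrans

/-- Evaluate units along a morphism. -/
abbrev pu {X Y : Scheme.{u}} (f : X ⟶ Y) (U : Y.Opens) (V : X.Opens) (h : V ≤ f ⁻¹ᵁ U) : Γ(Y, U)ˣ →* Γ(X, V)ˣ :=
  Units.map (f.appLE U V h).hom.toMonoidHom

theorem pu_pu {X Y Z : Scheme.{u}} (f : X ⟶ Y) (g : Y ⟶ Z) {k : X ⟶ Z} (e : f ≫ g = k) {U : Z.Opens} {V : Y.Opens}
    {W : X.Opens} (h : W ≤ f ⁻¹ᵁ V) (h' : V ≤ g ⁻¹ᵁ U) (s : Γ(Z, U)ˣ) :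
    pu f V W h (pu g U V h' s) = pu k U W (e ▸ h.trans (f.preimage_mono h')) s := by
  subst e
  exact Units.ext (ConcreteCategory.congr_hom (Scheme.Hom.appLE_comp_appLE f g U V W h' h) (s : Γ(Z, U)))

theorem map_pu {X Y : Scheme.{u}} (f : X ⟶ Y) {U : Y.Opens} {V V' : X.Opens} (h : V ≤ f ⁻¹ᵁ U) (hV : V' ≤ V)
    (s : Γ(Y, U)ˣ) : Units.map (resR hV).toMonoidHom (pu f U V h s) = pu f U V' (hV.trans h) s :=
  Units.ext (ConcreteCategory.congr_hom (Scheme.Hom.appLE_map f h (homOfLE hV).op) (s : Γ(Y, U)))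

theorem pu_map {X Y : Scheme.{u}} (f : X ⟶ Y) {U U' : Y.Opens} {V : X.Opens} (h : V ≤ f ⁻¹ᵁ U) (hU : U ≤ U')
    (s : Γ(Y, U')ˣ) :
    pu f U V h (Units.map (resR hU).toMonoidHom s) = pu f U' V (h.trans (f.preimage_mono hU)) s :=
  Units.ext (ConcreteCategory.congr_hom (Scheme.Hom.map_appLE f h (homOfLE hU).op) (s : Γ(Y, U')))

theorem app_eq_of_appLE {X Y : Scheme.{u}} (f : X ⟶ Y) {U : Y.Opens} {V : X.Opens} (h : V ≤ f ⁻¹ᵁ U)
    (e : V = f ⁻¹ᵁ U) {s t : Γ(Y, U)} (he : f.appLE U V h s = f.appLE U V h t) : f.app U s = f.app U t := by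
  subst e
  rw [Scheme.Hom.app_eq_appLE]
  exact he

theorem appLE_congr_hom {X Y : Scheme.{u}} {f g : X ⟶ Y} (e : f = g) {U : Y.Opens} {V : X.Opens} (h : V ≤ f ⁻¹ᵁ U) :
    f.appLE U V h = g.appLE U V (e ▸ h) := by
  subst e; rfl

theorem appLE_appLE {X Y Z : Scheme.{u}} (f : X ⟶ Y) (g : Y ⟶ Z) {k : X ⟶ Z} (e : f ≫ g = k) {U : Z.Opens}
    {V : Y.Opens} {W : X.Opens} (h : W ≤ f ⁻¹ᵁ V) (h' : V ≤ g ⁻¹ᵁ U) (s : Γ(Z, U)) :
    f.appLE V W h (g.appLE U V h' s) = k.appLE U W (e ▸ h.trans (f.preimage_mono h')) s := by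
  subst e
  exact ConcreteCategory.congr_hom (Scheme.Hom.appLE_comp_appLE f g U V W h' h) s

variable {I : Type u} [SmallCategory I] [IsCofiltered I] {D : I ⥤ Scheme.{u}} {c : Cone D} (hc : IsLimit c)
  [∀ {i j : I} (f : i ⟶ j), IsAffineHom (D.map f)] [∀ i, CompactSpace (D.obj i)]
  [∀ i, QuasiSeparatedSpace (D.obj i)]

/-- A finite family of properties which persist holds at a common index. -/
theorem exists_forall {J : Type u} [Category.{u} J] [IsCofiltered J] {ι : Type*} [Finite ι] (P : ι → J → Prop)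
    (mono : ∀ a {j k : J} (_ : k ⟶ j), P a j → P a k) (h : ∀ a, ∃ j, P a j) : ∃ j, ∀ a, P a j := by
  classical
  haveI := Fintype.ofFinite ι
  choose j hj using h
  obtain ⟨k, hk⟩ := IsCofiltered.inf_objs_exists (Finset.univ.image j)
  exact ⟨k, fun a => mono a (hk (Finset.mem_image_of_mem j (Finset.mem_univ a))).some (hj a)⟩

theorem π_le {i : I} (j : Over i) (U : (D.obj i).Opens) :
    c.π.app i ⁻¹ᵁ U ≤ c.π.app j.left ⁻¹ᵁ (D.map j.hom ⁻¹ᵁ U) := by
  rw [← Scheme.Hom.comp_preimage, c.w]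

theorem map_le {i : I} {j k : Over i} (g : k ⟶ j) (U : (D.obj i).Opens) :
    D.map k.hom ⁻¹ᵁ U ≤ D.map g.left ⁻¹ᵁ (D.map j.hom ⁻¹ᵁ U) := by
  rw [← Scheme.Hom.comp_preimage, ← D.map_comp, Over.w g]

include hc

/-- A section over a quasi-compact open of the limit comes from a stage. -/
theorem exists_lift {i : I} {U : (D.obj i).Opens} (hU : IsCompact (U : Set (D.obj i)))
    (s : Γ(c.pt, c.π.app i ⁻¹ᵁ U)) :
    ∃ (j : Over i) (t : Γ(D.obj j.left, D.map j.hom ⁻¹ᵁ U)),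
      (c.π.app j.left).appLE (D.map j.hom ⁻¹ᵁ U) (c.π.app i ⁻¹ᵁ U) (π_le j U) t = s := by
  haveI : ∀ j, CompactSpace ((opensDiagram D i U).obj j) := fun j =>
    isCompact_iff_compactSpace.mp (QuasiCompact.isCompact_preimage (f := D.map j.hom) _ U.2 hU)
  haveI : ∀ j, QuasiSeparatedSpace ((opensDiagram D i U).obj j) := fun j =>
    QuasiSeparatedSpace.of_isOpenEmbedding (D.map j.hom ⁻¹ᵁ U).ι.isOpenEmbedding
  obtain ⟨j, t, ht⟩ := exists_appTop_π_eq_of_isLimit _ _ (isLimitOpensCone D c hc i U)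
    ((c.π.app i ⁻¹ᵁ U).topIso.inv s)
  obtain ⟨t, rfl⟩ := (D.map j.hom ⁻¹ᵁ U).topIso.symm.commRingCatIsoToRingEquiv.surjective t
  refine ⟨j, t, ?_⟩
  have h2 : s = ((D.map j.hom ⁻¹ᵁ U).topIso.inv ≫ ((opensCone D c i U).π.app j).appTop ≫
      (c.π.app i ⁻¹ᵁ U).topIso.hom) t :=
    (c.π.app i ⁻¹ᵁ U).topIso.commRingCatIsoToRingEquiv.symm_apply_eq.mp ht
  rw [h2]
  congr! 2
  simp [Scheme.Hom.app_eq_appLE, Scheme.Hom.resLE_appLE]

/-- Two sections over a quasi-compact open which agree on the limit agree at a stage. -/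
theorem exists_eq {i : I} {j : Over i} {U : (D.obj i).Opens} (hU : IsCompact (U : Set (D.obj i)))
    (s t : Γ(D.obj j.left, D.map j.hom ⁻¹ᵁ U))
    (h : (c.π.app j.left).appLE (D.map j.hom ⁻¹ᵁ U) (c.π.app i ⁻¹ᵁ U) (π_le j U) s =
      (c.π.app j.left).appLE (D.map j.hom ⁻¹ᵁ U) (c.π.app i ⁻¹ᵁ U) (π_le j U) t) :
    ∃ (k : Over i) (g : k ⟶ j), (D.map g.left).appLE (D.map j.hom ⁻¹ᵁ U) (D.map k.hom ⁻¹ᵁ U) (map_le g U) s =
      (D.map g.left).appLE (D.map j.hom ⁻¹ᵁ U) (D.map k.hom ⁻¹ᵁ U) (map_le g U) t := by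
  have e : c.π.app j.left ⁻¹ᵁ (D.map j.hom ⁻¹ᵁ U) = c.π.app i ⁻¹ᵁ U := by rw [← Scheme.Hom.comp_preimage, c.w]
  have h' := app_eq_of_appLE (c.π.app j.left) (π_le j U) e.symm h
  obtain ⟨k', f, hf⟩ := exists_app_map_eq_map_of_isLimit D c hc
    (QuasiCompact.isCompact_preimage (f := D.map j.hom) _ U.2 hU) s t h'
  refine ⟨Over.mk (f ≫ j.hom), Over.homMk f rfl, ?_⟩
  have h2 := congrArg ((D.obj k').presheaf.map (homOfLE (map_le (Over.homMk f rfl : Over.mk (f ≫ j.hom) ⟶ j) U)).op) hf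
  exact h2

/-- A unit over a quasi-compact open of the limit comes from a stage. -/
theorem exists_lift_unit {i : I} {U : (D.obj i).Opens} (hU : IsCompact (U : Set (D.obj i)))
    (s : Γ(c.pt, c.π.app i ⁻¹ᵁ U)ˣ) :
    ∃ (j : Over i) (t : Γ(D.obj j.left, D.map j.hom ⁻¹ᵁ U)ˣ),
      pu (c.π.app j.left) _ (c.π.app i ⁻¹ᵁ U) (π_le j U) t = s := by
  obtain ⟨j₁, a, ha⟩ := exists_lift hc hU (s : Γ(c.pt, c.π.app i ⁻¹ᵁ U))
  obtain ⟨j₂, b, hb⟩ := exists_lift hc hU ((s⁻¹ : Γ(c.pt, c.π.app i ⁻¹ᵁ U)ˣ) : Γ(c.pt, c.π.app i ⁻¹ᵁ U))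
  let j := IsCofiltered.min j₁ j₂
  let g₁ : j ⟶ j₁ := IsCofiltered.minToLeft j₁ j₂
  let g₂ : j ⟶ j₂ := IsCofiltered.minToRight j₁ j₂
  let a' := (D.map g₁.left).appLE _ _ (map_le g₁ U) a
  let b' := (D.map g₂.left).appLE _ _ (map_le g₂ U) b
  have hp : ∀ {j' k : Over i} (g : k ⟶ j') (x : Γ(D.obj j'.left, D.map j'.hom ⁻¹ᵁ U)),
      (c.π.app k.left).appLE _ _ (π_le k U) ((D.map g.left).appLE _ _ (map_le g U) x) =
        (c.π.app j'.left).appLE _ _ (π_le j' U) x := fun {j' k} g x =>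
    appLE_appLE _ _ (c.w g.left) _ _ x
  obtain ⟨k, g, hk⟩ := exists_eq hc hU (a' * b') 1 (by rw [map_mul, hp, hp, ha, hb, map_one, Units.mul_inv])
  rw [map_mul, map_one] at hk
  exact ⟨k, ⟨(D.map g.left).appLE _ _ (map_le g U) a', (D.map g.left).appLE _ _ (map_le g U) b', hk,
    by rw [mul_comm]; exact hk⟩, Units.ext (((hp g a').trans (hp g₁ a)).trans ha)⟩

/-- Units over a quasi-compact open which agree on the limit agree at a stage. -/
theorem exists_eq_unit {i : I} {j : Over i} {U : (D.obj i).Opens} (hU : IsCompact (U : Set (D.obj i)))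
    (s t : Γ(D.obj j.left, D.map j.hom ⁻¹ᵁ U)ˣ)
    (h : pu (c.π.app j.left) _ _ (π_le j U) s = pu (c.π.app j.left) _ (c.π.app i ⁻¹ᵁ U) (π_le j U) t) :
    ∃ (k : Over i) (g : k ⟶ j), pu (D.map g.left) _ _ (map_le g U) s =
      pu (D.map g.left) _ (D.map k.hom ⁻¹ᵁ U) (map_le g U) t := by
  obtain ⟨k, g, hk⟩ := exists_eq hc hU _ _ (congrArg Units.val h)
  exact ⟨k, g, Units.ext hk⟩

/-- A finite affine cover of a stage fitting a given cover of the limit. -/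
theorem exists_cover (U : c.pt → c.pt.Opens) (hU : ∀ x, x ∈ U x) :
    ∃ (i : I) (ι : Type u) (_ : Finite ι) (V : ι → (D.obj i).Opens) (x : ι → c.pt),
      (∀ a, IsAffineOpen (V a)) ∧ iSup V = ⊤ ∧ ∀ a, c.π.app i ⁻¹ᵁ V a ≤ U (x a) := by
  classical
  haveI := Scheme.compactSpace_of_isLimit D c hc
  have hb : ∀ x, ∃ (i : I) (V : (D.obj i).Opens), IsAffineOpen V ∧ c.π.app i x ∈ V ∧ c.π.app i ⁻¹ᵁ V ≤ U x := by
    intro x
    obtain ⟨_, ⟨i, V, hV, rfl⟩, hx, hle⟩ :=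
      Opens.isBasis_iff_nbhd.mp (isBasis_preimage_isAffineOpen D c hc) (hU x)
    exact ⟨i, V, hV, hx, hle⟩
  choose i V hV hx hle using hb
  obtain ⟨σ, hσ⟩ := CompactSpace.elim_nhds_subcover (fun x => ((c.π.app (i x) ⁻¹ᵁ V x : c.pt.Opens) : Set c.pt))
    (fun x => (c.π.app (i x) ⁻¹ᵁ V x : c.pt.Opens).2.mem_nhds (hx x))
  obtain ⟨i₀, hi₀⟩ := IsCofiltered.inf_objs_exists (σ.image i)
  let g : ∀ a : σ, i₀ ⟶ i a := fun a => (hi₀ (Finset.mem_image_of_mem i a.2)).some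
  obtain ⟨j, f, hj⟩ := exists_map_preimage_eq_map_preimage D c hc
    (U := ⨆ a : σ, D.map (g a) ⁻¹ᵁ V a) (V := (⊤ : (D.obj i₀).Opens))
    (by
      rw [Opens.coe_iSup]
      exact isCompact_iUnion fun a => ((hV a).preimage (D.map (g a))).isCompact)
    isCompact_univ (top_le_iff.mp fun y _ => by
      obtain ⟨a, ha, hy⟩ := Set.mem_iUnion₂.mp (hσ.ge (Set.mem_univ y))
      refine Opens.mem_iSup.mpr ⟨⟨a, ha⟩, ?_⟩
      show (c.π.app i₀ ≫ D.map (g ⟨a, ha⟩)) y ∈ V a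
      rw [c.w]
      exact hy)
  refine ⟨j, σ, inferInstance, fun a => D.map (f ≫ g a) ⁻¹ᵁ V a, fun a => a.1,
    fun a => (hV a).preimage _, ?_, fun a => ?_⟩
  · rw [Scheme.Hom.preimage_iSup] at hj
    simp only [D.map_comp, Scheme.Hom.comp_preimage]
    exact hj.trans (Scheme.Hom.preimage_top _)
  · rw [← Scheme.Hom.comp_preimage, c.w]
    exact hle a

/-- Finitely many equalities of units on the limit hold at a common stage. -/
theorem exists_eq_units {i : I} (j : Over i) {P : Type*} [Finite P] (U : P → (D.obj i).Opens)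
    (hU : ∀ p, IsCompact (U p : Set (D.obj i))) (s t : ∀ p, Γ(D.obj j.left, D.map j.hom ⁻¹ᵁ U p)ˣ)
    (h : ∀ p, pu (c.π.app j.left) _ _ (π_le j (U p)) (s p) =
      pu (c.π.app j.left) _ (c.π.app i ⁻¹ᵁ U p) (π_le j (U p)) (t p)) :
    ∃ (k : Over i) (g : k ⟶ j), ∀ p, pu (D.map g.left) _ _ (map_le g (U p)) (s p) =
      pu (D.map g.left) _ (D.map k.hom ⁻¹ᵁ U p) (map_le g (U p)) (t p) := by
  classical
  haveI := Fintype.ofFinite P
  choose k g e using fun p => exists_eq_unit hc (hU p) (s p) (t p) (h p)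
  let S : Finset (Over i) := insert j (Finset.univ.image k)
  obtain ⟨K, T, hT⟩ := IsCofiltered.inf_exists S
    (Finset.univ.image fun p => ⟨k p, j, Finset.mem_insert_of_mem (Finset.mem_image_of_mem k (Finset.mem_univ p)),
      Finset.mem_insert_self _ _, g p⟩)
  refine ⟨K, T (Finset.mem_insert_self _ _), fun p => ?_⟩
  have hTp : T (Finset.mem_insert_of_mem (Finset.mem_image_of_mem k (Finset.mem_univ p))) ≫ g p =
      T (Finset.mem_insert_self _ _) := hT _ _ (Finset.mem_image.2 ⟨p, Finset.mem_univ _, rfl⟩)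
  generalize T (Finset.mem_insert_of_mem (Finset.mem_image_of_mem k (Finset.mem_univ p))) = a at hTp
  have e' := congrArg (pu (D.map a.left) _ (D.map K.hom ⁻¹ᵁ U p) (map_le a (U p))) (e p)
  have ea : D.map a.left ≫ D.map (g p).left = D.map (T (Finset.mem_insert_self j _)).left := by
    rw [← D.map_comp, ← Over.comp_left, hTp]
  rwa [pu_pu _ _ ea, pu_pu _ _ ea] at e'

/-- A cocycle of units on the limit comes from a stage. -/
theorem exists_cocycle {i : I} {ι : Type u} [Finite ι] (V : ι → (D.obj i).Opens) (hV : ∀ a, IsAffineOpen (V a))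
    (G : ∀ a b, Γ(c.pt, c.π.app i ⁻¹ᵁ (V a ⊓ V b))ˣ)
    (hco : ∀ a b d (W : c.pt.Opens) (h13 : W ≤ c.π.app i ⁻¹ᵁ (V a ⊓ V d)) (h23 : W ≤ c.π.app i ⁻¹ᵁ (V b ⊓ V d))
      (h12 : W ≤ c.π.app i ⁻¹ᵁ (V a ⊓ V b)), Units.map (resR h13).toMonoidHom (G a d) =
        Units.map (resR h23).toMonoidHom (G b d) * Units.map (resR h12).toMonoidHom (G a b)) :
    ∃ (k : Over i) (co : H23.CocycleMod.Cocycle fun a => D.map k.hom ⁻¹ᵁ V a), ∀ a b (W : c.pt.Opens)
      (hW : W ≤ c.π.app i ⁻¹ᵁ (V a ⊓ V b)),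
      pu (c.π.app k.left) _ W (hW.trans (π_le k (V a ⊓ V b))) (co.g a b) =
        Units.map (resR hW).toMonoidHom (G a b) := by
  classical
  have hc2 : ∀ a b, IsCompact ((V a ⊓ V b : (D.obj i).Opens) : Set (D.obj i)) := fun a b =>
    QuasiSeparatedSpace.inter_isCompact _ _ (V a).2 (hV a).isCompact (V b).2 (hV b).isCompact
  obtain ⟨j, hj⟩ := exists_forall (fun (ab : ι × ι) (j : Over i) =>
      ∃ t : Γ(D.obj j.left, D.map j.hom ⁻¹ᵁ (V ab.1 ⊓ V ab.2))ˣ,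
        pu (c.π.app j.left) _ _ (π_le j _) t = G ab.1 ab.2)
    (fun ab {j k : Over i} (g : k ⟶ j) h =>
      ⟨pu (D.map g.left) _ _ (map_le g _) h.choose, (pu_pu _ _ (c.w g.left) _ _ _).trans h.choose_spec⟩)
    (fun ab => exists_lift_unit hc (hc2 _ _) (G ab.1 ab.2))
  choose t ht using hj
  let W3 : ι × ι × ι → (D.obj i).Opens := fun p => V p.1 ⊓ V p.2.1 ⊓ V p.2.2
  have hc3 : ∀ p, IsCompact (W3 p : Set (D.obj i)) := fun p =>
    QuasiSeparatedSpace.inter_isCompact _ _ (V p.1 ⊓ V p.2.1).2 (hc2 _ _) (V p.2.2).2 (hV _).isCompact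
  let R : ∀ (p : ι × ι × ι) (a b : ι), W3 p ≤ V a ⊓ V b → Γ(D.obj j.left, D.map j.hom ⁻¹ᵁ W3 p)ˣ :=
    fun p a b h => Units.map (resR ((D.map j.hom).preimage_mono h)).toMonoidHom (t (a, b))
  have l1 : ∀ p, W3 p ≤ V p.1 := fun p => inf_le_left.trans inf_le_left
  have l2 : ∀ p, W3 p ≤ V p.2.1 := fun p => inf_le_left.trans inf_le_right
  have l3 : ∀ p, W3 p ≤ V p.2.2 := fun p => inf_le_right
  have hlim : ∀ p a b (h : W3 p ≤ V a ⊓ V b), pu (c.π.app j.left) _ _ (π_le j (W3 p)) (R p a b h) =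
      Units.map (resR ((c.π.app i).preimage_mono h)).toMonoidHom (G a b) := fun p a b h => by
    rw [← ht (a, b)]
    exact (pu_map _ _ _ _).trans (map_pu _ _ _ _).symm
  obtain ⟨k, g, hk⟩ := exists_eq_units hc j W3 hc3 (fun p => R p p.1 p.2.2 (le_inf (l1 p) (l3 p)))
    (fun p => R p p.2.1 p.2.2 (le_inf (l2 p) (l3 p)) * R p p.1 p.2.1 (le_inf (l1 p) (l2 p))) fun p => by
      rw [map_mul, hlim p _ _ (le_inf (l1 p) (l3 p)), hlim p _ _ (le_inf (l2 p) (l3 p)),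
        hlim p _ _ (le_inf (l1 p) (l2 p))]
      exact hco p.1 p.2.1 p.2.2 _ _ _ _
  let K : I := k.left
  let T : ι → (D.obj K).Opens := fun a => D.map k.hom ⁻¹ᵁ V a
  have hT : ∀ a b, T a ⊓ T b ≤ D.map g.left ⁻¹ᵁ (D.map j.hom ⁻¹ᵁ (V a ⊓ V b)) := fun a b =>
    map_le g (V a ⊓ V b)
  let tk : ∀ a b, Γ(D.obj K, T a ⊓ T b)ˣ := fun a b => pu (D.map g.left) _ _ (hT a b) (t (a, b))
  let co : H23.CocycleMod.Cocycle T := ⟨tk, fun a b d W ha hb hd => by
    have hW : W ≤ D.map k.hom ⁻¹ᵁ W3 (a, b, d) := fun z hz => ⟨⟨ha hz, hb hz⟩, hd hz⟩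
    have key : ∀ p q (hp : W ≤ T p) (hq : W ≤ T q) (h : W3 (a, b, d) ≤ V p ⊓ V q),
        Units.map (resR (le_inf hp hq)).toMonoidHom (tk p q) =
          Units.map (resR hW).toMonoidHom (pu (D.map g.left) _ _ (map_le g _) (R (a, b, d) p q h)) := by
      intro p q hp hq h
      refine Eq.trans ?_ (congrArg (Units.map (resR hW).toMonoidHom) (pu_map _ _ _ _)).symm
      exact (map_pu _ _ _ _).trans (map_pu _ _ _ _).symm
    suffices h : Units.map (resR (le_inf ha hd)).toMonoidHom (tk a d) =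
        Units.map (resR (le_inf hb hd)).toMonoidHom (tk b d) * Units.map (resR (le_inf ha hb)).toMonoidHom (tk a b)
      from congrArg Units.val h
    rw [key a d ha hd (le_inf (l1 (a, b, d)) (l3 (a, b, d))), key b d hb hd (le_inf (l2 (a, b, d)) (l3 (a, b, d))),
      key a b ha hb (le_inf (l1 (a, b, d)) (l2 (a, b, d))), ← map_mul, ← map_mul]
    exact congrArg _ (hk (a, b, d))⟩
  refine ⟨k, co, fun a b W hW => ?_⟩
  rw [← ht (a, b)]
  exact (pu_pu (c.π.app k.left) (D.map g.left) (c.w g.left) _ (hT a b) (t (a, b))).trans (map_pu _ _ _ _).symm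

/-- **An invertible module on a limit comes from a stage.** -/
theorem exists_invertible (L : c.pt.Modules) (hL : PicF.IsInvertible L) :
    ∃ (i : I) (M : (D.obj i).Modules), PicF.IsInvertible M ∧
      Nonempty ((Scheme.Modules.pullback (c.π.app i)).obj M ≅ L) := by
  classical
  obtain ⟨F⟩ := nonempty_frames hL
  obtain ⟨i, ι, _, V, x, hV, hcov, hle⟩ := exists_cover hc F.U F.mem
  let eV : ∀ a, Γ(L, c.π.app i ⁻¹ᵁ V a) := fun a => res L (hle a) (F.e (x a))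
  have heV : ∀ a, IsFrame (eV a) := fun a => (F.he (x a)).res _
  let G : ∀ a b, Γ(c.pt, c.π.app i ⁻¹ᵁ (V a ⊓ V b))ˣ := fun a b =>
    Units.map (resR (le_inf ((c.π.app i).preimage_mono inf_le_right) ((c.π.app i).preimage_mono inf_le_left))).toMonoidHom
      (tr (heV b) (heV a))
  have hG : ∀ a b (W : c.pt.Opens) (h : W ≤ c.π.app i ⁻¹ᵁ (V a ⊓ V b)),
      res L (h.trans ((c.π.app i).preimage_mono inf_le_left)) (eV a) =
        (Units.map (resR h).toMonoidHom (G a b) : Γ(c.pt, W)) •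
          res L (h.trans ((c.π.app i).preimage_mono inf_le_right)) (eV b) := fun a b W h => by
    refine (tr_spec (heV b) (heV a) (h.trans ((c.π.app i).preimage_mono inf_le_right))
      (h.trans ((c.π.app i).preimage_mono inf_le_left))).trans ?_
    congr 1
    exact (resR_resR _ _ _).symm
  obtain ⟨k, co, hk⟩ := exists_cocycle hc V hV G fun a b d W h13 h23 h12 => by
    have wa : W ≤ c.π.app i ⁻¹ᵁ V a := fun z hz => (h12 hz).1
    have wb : W ≤ c.π.app i ⁻¹ᵁ V b := fun z hz => (h12 hz).2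
    have wd : W ≤ c.π.app i ⁻¹ᵁ V d := fun z hz => (h13 hz).2
    refine Units.ext (((heV d).res wd).coord_unique le_rfl ?_)
    rw [res_self, Units.val_mul, ← hG a d W h13, hG a b W h12, hG b d W h23, smul_smul, mul_comm]
  let K : I := k.left
  let T : ι → (D.obj K).Opens := fun a => D.map k.hom ⁻¹ᵁ V a
  refine ⟨K, H23.CocycleMod.mod co, H23.CocycleMod.isInvertible co (by
    rw [← Scheme.Hom.preimage_iSup, hcov, Scheme.Hom.preimage_top]), ?_⟩
  let π : c.pt ⟶ D.obj K := c.π.app K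
  let N := (Scheme.Modules.pullback π).obj (H23.CocycleMod.mod co)
  have hπ : ∀ a, c.π.app i ⁻¹ᵁ V a ≤ π ⁻¹ᵁ T a := fun a => π_le k (V a)
  let e : ∀ a, Γ(N, c.π.app i ⁻¹ᵁ V a) := fun a => res N (hπ a) (pullElt π (H23.CocycleMod.frame co a))
  have he : ∀ a, IsFrame (e a) := fun a => (isFrame_pullElt π (H23.CocycleMod.isFrame_frame co a)).res _
  refine RigDescent.nonempty_iso_of_main (fun a => c.π.app i ⁻¹ᵁ V a) (fun z => ?_) e eV he heV fun b a W hp hq => ?_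
  · obtain ⟨a, ha⟩ := Opens.mem_iSup.1 (show c.π.app i z ∈ iSup V by rw [hcov]; trivial)
    exact ⟨a, ha⟩
  have hW : W ≤ c.π.app i ⁻¹ᵁ (V a ⊓ V b) := fun z hz => ⟨hq hz, hp hz⟩
  have wa : W ≤ π ⁻¹ᵁ T a := hq.trans (hπ a)
  have wb : W ≤ π ⁻¹ᵁ T b := hp.trans (hπ b)
  refine ⟨(pu π (T a ⊓ T b) W (fun z hz => ⟨wa hz, wb hz⟩) (co.g a b) : Γ(c.pt, W)), ?_, ?_⟩
  · show res N hq (res N _ _) = _ • res N hp (res N _ _)
    rw [res_res, res_res]
    have h' := congrArg (fun s => res N (show W ≤ π ⁻¹ᵁ (T a ⊓ T b) from le_inf wa wb) (pullElt π s))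
      (H23.CocycleMod.res_frame co a b)
    erw [FramesTrans.pullElt_res, FramesTrans.pullElt_smul, FramesTrans.pullElt_res, res_smul, res_res, res_res] at h'
    exact h'
  · refine (hG a b W hW).trans ?_
    congr 1
    exact congrArg Units.val (hk a b W hW).symm

end Groth.Agent.LimPic
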